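import Groth.Agent.DiagUnip.Lift
import Groth.Agent.HopfRange.Basic
import Groth.Agent.FinHopf.EtConn
import Groth.Agent.UnipMult.Pointed
import Mathlib.RingTheory.Jacobson.Ring
import Mathlib.RingTheory.Etale.Basic
import Mathlib.RingTheory.Etale.Field
import Mathlib.RingTheory.Unramified.Field
import Mathlib.LinearAlgebra.FreeModule.Finite.Matrix
import Mathlib.FieldTheory.Perfect
import Mathlib.FieldTheory.IsAlgClosed.AlgebraicClosure

/-!
# Étale quotients by radicial kernels lift uniquely
-/

set_option autoImplicit false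
set_option backward.isDefEq.respectTransparency false

universe u

open TensorProduct Coalgebra WithConv
open Groth.Agent.Takeuchi
open Groth.Agent.DiagUnip (mul_congr_on inv_congr_on)

noncomputable section

namespace Groth.Agent.EtRadiciel

variable {k : Type u} [Field k] {A C : Type u} [CommRing A] [HopfAlgebra k A] [Algebra.FiniteType k A]
  [CommRing C] [HopfAlgebra k C] (ψ : C →ₐc[k] A) (J : Ideal A) [J.IsHopfIdeal k]
  (hJ : J = Ideal.map (ψ : C →+* A) (RingHom.ker (Bialgebra.counitAlgHom k C)))

/-- A point of a group with local coordinate ring is trivial. -/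
theorem point_eq_counit [IsLocalRing (A ⧸ J)] {R : Type u} [CommRing R] [IsReduced R] [Algebra k R]
    (g : A →ₐ[k] R) (hg : ∀ a ∈ J, g a = 0) (a : A) : g a = algebraMap k R (counit (R := k) a) := by
  haveI : Algebra.FiniteType k (A ⧸ J) :=
    Algebra.FiniteType.of_surjective (Ideal.Quotient.mkₐ k J) Ideal.Quotient.mk_surjective
  haveI : IsJacobsonRing (A ⧸ J) := isJacobsonRing_of_finiteType (A := k) (B := A ⧸ J)
  let x : A := a - algebraMap k A (counit (R := k) a)
  have hx : Ideal.Quotient.mk J x ∈ IsLocalRing.maximalIdeal (A ⧸ J) := by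
    rw [IsLocalRing.mem_maximalIdeal, mem_nonunits_iff]
    intro hu
    have := hu.map (Bialgebra.counitAlgHom k (A ⧸ J))
    rw [show Bialgebra.counitAlgHom k (A ⧸ J) (Ideal.Quotient.mk J x) = counit (R := k) x from rfl] at this
    simp [x] at this
  have hnil : IsNilpotent (Ideal.Quotient.mk J x) := by
    rw [← mem_nilradical, nilradical, Ideal.radical_eq_jacobson, IsLocalRing.jacobson_eq_maximalIdeal _ (by simp)]
    exact hx
  have h0 : g x = 0 := by
    have := (hnil.map (Ideal.Quotient.liftₐ J g hg))
    exact this.eq_zero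
  rw [map_sub, AlgHom.commutes, sub_eq_zero] at h0
  exact h0

include hJ in
/-- Points are determined by their images in the étale quotient. -/
theorem point_ext [IsLocalRing (A ⧸ J)] {R : Type u} [CommRing R] [IsReduced R] [Algebra k R]
    (g h : A →ₐ[k] R) (heq : ∀ c, g (ψ c) = h (ψ c)) : g = h := by
  have hC := HopfRange.isSubHopf_range ψ
  let d : Pt k A R := (toConv g)⁻¹ * toConv h
  have hd : ∀ a ∈ J, d a = 0 := by
    intro a ha
    rw [hJ] at ha
    refine RingHom.mem_ker.1 ((Ideal.map_le_iff_le_comap.mpr ?_ : Ideal.map (ψ : C →+* A) _ ≤ RingHom.ker d.ofConv.toRingHom) ha)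
    intro c hc
    show d (ψ c) = 0
    rw [show d (ψ c) = ((toConv g)⁻¹ * toConv g) (ψ c) from
      mul_congr_on hC (fun x _ => rfl) (fun x hx => by obtain ⟨c', rfl⟩ := hx; exact (heq c').symm) ⟨c, rfl⟩,
      inv_mul_cancel, Takeuchi.one_apply, CoalgHomClass.counit_comp_apply]
    rw [show counit (R := k) c = 0 from hc, map_zero]
  have h1 : d = 1 := WithConv.ext (AlgHom.ext fun a => by
    show d a = (1 : Pt k A R) a
    rw [Takeuchi.one_apply]
    exact point_eq_counit J d.ofConv hd a)
  have h2 : toConv g = toConv h := inv_mul_eq_one.mp h1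
  exact congrArg WithConv.ofConv h2

variable [Algebra.Etale k C] [PerfectField k] (hψ : Function.Injective ψ)

include hJ hψ in
theorem bijective_red [IsLocalRing (A ⧸ J)] :
    Function.Bijective ((Ideal.Quotient.mkₐ k (nilradical A)).comp (ψ : C →ₐ[k] A)) := by
  haveI : IsJacobsonRing A := isJacobsonRing_of_finiteType (A := k) (B := A)
  haveI : Module.Finite k C := Algebra.FormallyUnramified.finite_of_free k C
  haveI : IsReduced C := Algebra.FormallyUnramified.isReduced_of_field k C
  let K := AlgebraicClosure k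
  let φ := (Ideal.Quotient.mkₐ k (nilradical A)).comp (ψ : C →ₐ[k] A)
  have hinj : Function.Injective φ := (injective_iff_map_eq_zero _).2 fun c hc => by
    have : IsNilpotent (ψ c) := mem_nilradical.1 (Ideal.Quotient.eq_zero_iff_mem.1 hc)
    exact (IsNilpotent.map_iff hψ).mp this |>.eq_zero
  -- finitely many points
  have hpt : Function.Injective (fun g : A →ₐ[k] K => g.comp (ψ : C →ₐ[k] A)) :=
    fun g h e => point_ext ψ J hJ g h fun c => AlgHom.congr_fun e c
  haveI : Finite (C →ₐ[k] K) := (linearIndependent_algHom_toLinearMap k C K).finite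
  haveI : Finite (A →ₐ[k] K) := Finite.of_injective _ hpt
  haveI hptfin : ∀ g : A →ₐ[k] K, Module.Finite k (LinearMap.range g.toLinearMap) := by
    intro g
    haveI : Algebra.FiniteType k g.range := Algebra.FiniteType.of_surjective g.rangeRestrict g.rangeRestrict_surjective
    haveI : IsDomain g.range := inferInstance
    have hf : IsField g.range := by
      haveI : Algebra.IsIntegral k g.range := ⟨fun x => by
        have := (Algebra.IsIntegral.isIntegral (R := k) (x : K))
        exact (isIntegral_algHom_iff g.range.val Subtype.val_injective).mp this⟩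
      exact isField_of_isIntegral_of_isField' (Field.toIsField k)
    letI : Field g.range := hf.toField
    haveI := finite_of_finite_type_of_isJacobsonRing k g.range
    exact Module.Finite.of_surjective
      ({ toFun := fun x => ⟨x.1, x.2⟩, map_add' := fun _ _ => rfl, map_smul' := fun _ _ => rfl } :
        g.range →ₗ[k] LinearMap.range g.toLinearMap) fun x => ⟨⟨x.1, x.2⟩, rfl⟩
  -- the reduction is finite
  have hker : ∀ a : A, (∀ g : A →ₐ[k] K, g a = 0) → a ∈ nilradical A := by
    intro a ha
    rw [nilradical, Ideal.radical_eq_jacobson]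
    refine Ideal.mem_sInf.mpr fun {M} hM => ?_
    haveI : M.IsMaximal := hM.2
    letI : Field (A ⧸ M) := Ideal.Quotient.field M
    haveI : Algebra.FiniteType k (A ⧸ M) :=
      Algebra.FiniteType.of_surjective (Ideal.Quotient.mkₐ k M) Ideal.Quotient.mk_surjective
    haveI : Module.Finite k (A ⧸ M) := finite_of_finite_type_of_isJacobsonRing k (A ⧸ M)
    let e : (A ⧸ M) →ₐ[k] K := IsAlgClosed.lift
    exact Ideal.Quotient.eq_zero_iff_mem.1 (e.injective ((ha (e.comp (Ideal.Quotient.mkₐ k M))).trans (map_zero e).symm))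
  haveI hredfin : Module.Finite k (A ⧸ nilradical A) := by
    haveI := Fintype.ofFinite (A →ₐ[k] K)
    let Λ : A →ₗ[k] ((g : A →ₐ[k] K) → LinearMap.range g.toLinearMap) :=
      LinearMap.pi fun g => g.toLinearMap.rangeRestrict
    have hΛ : (nilradical A).restrictScalars k = LinearMap.ker Λ := by
      ext a
      constructor
      · intro ha
        refine funext fun g => Subtype.ext ?_
        exact ((mem_nilradical.1 ha).map g).eq_zero
      · intro ha
        exact hker a fun g => congrArg Subtype.val (congrFun ha g)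
    haveI : Module.Finite k (A ⧸ LinearMap.ker Λ) := Module.Finite.equiv Λ.quotKerEquivRange.symm
    exact Module.Finite.equiv ((Submodule.quotEquivOfEq _ _ hΛ.symm).trans
      (Submodule.Quotient.restrictScalarsEquiv k (nilradical A)))
  -- counting
  haveI : IsReduced (A ⧸ nilradical A) := (Ideal.isRadical_iff_quotient_reduced _).1 (Ideal.radical_isRadical _)
  let Q := A ⧸ nilradical A
  haveI : Algebra.FormallyEtale k Q := EtConn.formallyEtale_of_isReduced Q
  haveI : Algebra.FormallyUnramified K (K ⊗[k] Q) := inferInstance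
  haveI : IsReduced (K ⊗[k] Q) := Algebra.FormallyUnramified.isReduced_of_field K _
  have h1 : Module.finrank k Q ≤ Nat.card (A →ₐ[k] K) := by
    have hspan : Submodule.span K (Set.range (AlgHom.toLinearMap : ((K ⊗[k] Q) →ₐ[K] K) → (K ⊗[k] Q) →ₗ[K] K)) = ⊤ :=
      eq_top_iff.mpr fun ω _ => UnipMult.mem_span_characters ω
    haveI : Finite ((K ⊗[k] Q) →ₐ[K] K) := by
      have hinj' : Function.Injective (fun χ : (K ⊗[k] Q) →ₐ[K] K =>
          ((χ.restrictScalars k).comp Algebra.TensorProduct.includeRight).comp (Ideal.Quotient.mkₐ k (nilradical A))) := by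
        intro χ χ' e
        refine Algebra.TensorProduct.ext (Subsingleton.elim _ _) (AlgHom.ext fun q => ?_)
        obtain ⟨a, rfl⟩ := Ideal.Quotient.mk_surjective q
        exact AlgHom.congr_fun e a
      exact Finite.of_injective _ hinj'
    haveI := Fintype.ofFinite ((K ⊗[k] Q) →ₐ[K] K)
    have h2 : Module.finrank K ((K ⊗[k] Q) →ₗ[K] K) ≤ Nat.card ((K ⊗[k] Q) →ₐ[K] K) := by
      rw [← finrank_top, ← hspan, Nat.card_eq_fintype_card]
      exact finrank_range_le_card _
    rw [Subspace.dual_finrank_eq, Module.finrank_baseChange] at h2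
    refine h2.trans (Nat.card_le_card_of_injective (fun χ : (K ⊗[k] Q) →ₐ[K] K =>
      ((χ.restrictScalars k).comp Algebra.TensorProduct.includeRight).comp (Ideal.Quotient.mkₐ k (nilradical A))) ?_)
    intro χ χ' e
    refine Algebra.TensorProduct.ext (Subsingleton.elim _ _) (AlgHom.ext fun q => ?_)
    obtain ⟨a, rfl⟩ := Ideal.Quotient.mk_surjective q
    exact AlgHom.congr_fun e a
  have h3 : Module.finrank k Q ≤ Module.finrank k C :=
    h1.trans ((Nat.card_le_card_of_injective _ hpt).trans (card_algHom_le_finrank k C K))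
  refine ⟨hinj, ?_⟩
  exact (LinearMap.injective_iff_surjective_of_finrank_eq_finrank (f := φ.toLinearMap)
    (le_antisymm (LinearMap.finrank_le_finrank_of_injective (f := φ.toLinearMap) hinj) h3)).1 hinj

include hJ hψ in
theorem existsUnique_retraction [IsLocalRing (A ⧸ J)] :
    (∃! r : A →ₐc[k] C, r.comp ψ = BialgHom.id k C) ∧
      ∀ r : A →ₐc[k] C, r.comp ψ = BialgHom.id k C → RingHom.ker (r : A →+* C) = nilradical A := by
  haveI : IsReduced C := Algebra.FormallyUnramified.isReduced_of_field k C
  haveI : IsReduced (C ⊗[k] C) := by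
    haveI : Module.Finite k C := Algebra.FormallyUnramified.finite_of_free k C
    haveI : Algebra.FiniteType k (C ⊗[k] C) := inferInstance
    haveI : Algebra.FormallyUnramified k (C ⊗[k] C) := Algebra.FormallyUnramified.comp k C (C ⊗[k] C)
    exact Algebra.FormallyUnramified.isReduced_of_field k _
  have hb := bijective_red ψ J hJ hψ
  let e : C ≃ₐ[k] A ⧸ nilradical A := AlgEquiv.ofBijective _ hb
  let r₀ : A →ₐ[k] C := (e.symm : A ⧸ nilradical A →ₐ[k] C).comp (Ideal.Quotient.mkₐ k (nilradical A))
  have hr₀ : ∀ c, r₀ (ψ c) = c := fun c => by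
    show e.symm (Ideal.Quotient.mk (nilradical A) (ψ c)) = c
    exact e.symm_apply_apply c
  have ext : ∀ {R : Type u} [CommRing R] [Algebra k R] [IsReduced R] (f g : A →ₐ[k] R),
      (∀ c, f (ψ c) = g (ψ c)) → f = g := fun f g h => point_ext ψ J hJ f g h
  let r : A →ₐc[k] C := BialgHom.ofAlgHom r₀
    (ext _ _ fun c => by
      show Bialgebra.counitAlgHom k C (r₀ (ψ c)) = counit (R := k) (ψ c)
      rw [hr₀, CoalgHomClass.counit_comp_apply]
      rfl)
    (ext _ _ fun c => by
      show Algebra.TensorProduct.map r₀ r₀ (comul (R := k) (ψ c)) = comul (R := k) (r₀ (ψ c))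
      rw [hr₀, HopfRange.comul_map]
      generalize comul (R := k) c = t
      induction t using TensorProduct.induction_on with
      | zero => simp
      | tmul x y => simp [hr₀]
      | add x y hx hy => simp only [map_add, hx, hy])
  have huniq : ∀ r' : A →ₐc[k] C, r'.comp ψ = BialgHom.id k C → (r' : A →ₐ[k] C) = r₀ := fun r' h =>
    ext _ _ fun c => by
      rw [hr₀]
      exact DFunLike.congr_fun h c
  refine ⟨⟨r, DFunLike.ext _ _ hr₀, fun r' h => DFunLike.ext _ _ fun a => AlgHom.congr_fun (huniq r' h) a⟩, fun r' h => ?_⟩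
  have hr' : ∀ a, r' a = r₀ a := fun a => AlgHom.congr_fun (huniq r' h) a
  ext a
  rw [RingHom.mem_ker]
  show r' a = 0 ↔ _
  rw [hr', show r₀ a = e.symm (Ideal.Quotient.mk (nilradical A) a) from rfl, map_eq_zero_iff _ e.symm.injective,
    Ideal.Quotient.eq_zero_iff_mem]

end Groth.Agent.EtRadiciel
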